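import Groth.Agent.CSALib.BaseChange
import Mathlib

/-!
# Brauer triviality over a separable algebraic extension
-/

set_option autoImplicit false

universe u

open scoped TensorProduct

namespace Groth.Agent.BrRes24

theorem finrank_eq_one_of_matrix {F D : Type u} [Field F] [DivisionRing D] [Algebra F D] {n : ℕ}
    (e : D ≃ₐ[F] Matrix (Fin n) (Fin n) F) : Module.finrank F D = 1 := by
  classical
  have hn : n = 1 := by
    rcases n with _ | _ | n
    · exact absurd (e.injective (Subsingleton.elim (e 1) (e 0))) one_ne_zero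
    · rfl
    · exfalso
      let E₁ : Matrix (Fin (n + 2)) (Fin (n + 2)) F := Matrix.single 0 1 1
      have h0 : E₁ * E₁ = 0 := Matrix.single_mul_single_of_ne (c := (1 : F)) 0 1 0 (by simp) 1
      have h1 : e.symm E₁ * e.symm E₁ = 0 := by rw [← map_mul, h0, map_zero]
      rcases mul_eq_zero.mp h1 with h | h <;>
      · have h2 : E₁ = 0 := by simpa using h
        have h3 := congrFun (congrFun h2 0) 1
        simp [E₁] at h3
  subst hn
  rw [e.toLinearEquiv.finrank_eq, Module.finrank_matrix, Fintype.card_fin, Module.finrank_self]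

/-- A division algebra over a separable algebraic extension comes from a finite level. -/
theorem exists_descent (K F' : Type u) [Field K] [Field F'] [Algebra K F'] [Algebra.IsSeparable K F']
    (D : Type u) [DivisionRing D] [Algebra F' D] [Algebra.IsCentral F' D] [FiniteDimensional F' D] :
    ∃ (E : IntermediateField K F') (_ : FiniteDimensional K E) (D₀ : Type u) (_ : DivisionRing D₀)
      (_ : Algebra E D₀), Algebra.IsCentral E D₀ ∧ FiniteDimensional E D₀ ∧
        Nonempty (F' ⊗[E] D₀ ≃ₐ[F'] D) := by
  classical
  let b := Module.finBasis F' D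
  set m := Module.finrank F' D
  let S : Finset F' := (Finset.univ.image fun i : Fin m => b.repr 1 i) ∪
    (Finset.univ.image fun p : Fin m × Fin m × Fin m => b.repr (b p.1 * b p.2.1) p.2.2)
  let E : IntermediateField K F' := IntermediateField.adjoin K (S : Set F')
  haveI : FiniteDimensional K E := by
    haveI : Finite (↑(S : Set F') : Type u) := S.finite_toSet.to_subtype
    exact IntermediateField.finiteDimensional_adjoin fun x _ => Algebra.IsIntegral.isIntegral x
  haveI : IsScalarTower E F' D :=
    ⟨fun a b c => by rw [IntermediateField.smul_def, IntermediateField.smul_def, smul_eq_mul, mul_smul]⟩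
  haveI : IsScalarTower E D D := ⟨fun a b c => by
    simp only [IntermediateField.smul_def, smul_eq_mul, smul_mul_assoc]⟩
  haveI : SMulCommClass E D D := ⟨fun a b c => by
    simp only [IntermediateField.smul_def, smul_eq_mul, mul_smul_comm]⟩
  letI algD : Algebra E D := Algebra.ofModule (fun r x y => smul_mul_assoc r x y)
    (fun r x y => mul_smul_comm r x y)
  let M : Submodule E D := Submodule.span E (Set.range b)
  have hmem : ∀ x : D, (∀ i, b.repr x i ∈ E) → x ∈ M := fun x hx => by
    rw [← b.sum_repr x]
    refine Submodule.sum_mem _ fun i _ => ?_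
    have : b.repr x i • b i = (⟨b.repr x i, hx i⟩ : E) • b i := (algebraMap_smul F' (⟨b.repr x i, hx i⟩ : E) (b i))
    rw [this]
    exact Submodule.smul_mem _ _ (Submodule.subset_span (Set.mem_range_self i))
  have h1 : (1 : D) ∈ M := hmem 1 fun i => IntermediateField.subset_adjoin K _ (by
    simp only [S, Finset.coe_union, Finset.coe_image, Finset.coe_univ, Set.image_univ]
    exact Or.inl ⟨i, rfl⟩)
  have h2 : ∀ x y, x ∈ M → y ∈ M → x * y ∈ M := by
    intro x y hx hy
    induction hx using Submodule.span_induction with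
    | mem x hx =>
      induction hy using Submodule.span_induction with
      | mem y hy =>
        obtain ⟨i, rfl⟩ := hx
        obtain ⟨j, rfl⟩ := hy
        exact hmem _ fun k => IntermediateField.subset_adjoin K _ (by
          simp only [S, Finset.coe_union, Finset.coe_image, Finset.coe_univ, Set.image_univ]
          exact Or.inr ⟨(i, j, k), rfl⟩)
      | zero => rw [mul_zero]; exact M.zero_mem
      | add y z _ _ hy hz => rw [mul_add]; exact M.add_mem hy hz
      | smul r y _ hy => rw [mul_smul_comm]; exact M.smul_mem _ hy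
    | zero => rw [zero_mul]; exact M.zero_mem
    | add x z _ _ hx hz => rw [add_mul]; exact M.add_mem hx hz
    | smul r x _ hx => rw [smul_mul_assoc]; exact M.smul_mem _ hx
  let D₀ : Subalgebra E D := M.toSubalgebra h1 h2
  haveI : Module.Finite E D₀ := Module.Finite.span_of_finite E (Set.finite_range b)
  haveI : Algebra.IsIntegral E D₀ := Algebra.IsIntegral.of_finite E D₀
  haveI : IsDomain D₀ := inferInstance
  letI : DivisionRing D₀ := divisionRingOfFiniteDimensional E D₀
  let f : F' ⊗[E] D₀ →ₐ[F'] D := Algebra.TensorProduct.lift (Algebra.ofId F' D) D₀.val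
    fun a x => Algebra.commutes a (x : D)
  have hli : LinearIndependent E b := b.linearIndependent.restrict_scalars'
    (R := E)
  let β₀ := Module.Basis.span hli
  let β : Module.Basis (Fin m) E D₀ := β₀.map (LinearEquiv.refl E M)
  have hβ : ∀ i, (β i : D) = b i := fun i => congrArg Subtype.val (Module.Basis.span_apply hli i)
  have hf : Function.Bijective f := by
    have he : f.toLinearMap = ((β.baseChange F').equiv b (Equiv.refl _)).toLinearMap := by
      apply (β.baseChange F').ext
      intro i
      rw [LinearEquiv.coe_coe, Module.Basis.equiv_apply, Equiv.refl_apply, Module.Basis.baseChange_apply,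
        AlgHom.toLinearMap_apply, Algebra.TensorProduct.lift_tmul, map_one, one_mul]
      exact hβ i
    rw [show (f : F' ⊗[E] D₀ → D) = f.toLinearMap from rfl, he]
    exact LinearEquiv.bijective _
  refine ⟨E, inferInstance, D₀, inferInstance, inferInstance, ⟨?_⟩, inferInstance,
    ⟨AlgEquiv.ofBijective f hf⟩⟩
  intro z hz
  rw [Subalgebra.mem_center_iff] at hz
  have hzc : ∀ i, (β i : D) * (z : D) = (z : D) * (β i : D) := fun i =>
    congrArg Subtype.val (hz (β i))
  have hzD : (z : D) ∈ Subalgebra.center F' D := by
    rw [Subalgebra.mem_center_iff]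
    intro x
    rw [← b.sum_repr x, Finset.sum_mul, Finset.mul_sum]
    refine Finset.sum_congr rfl fun i _ => ?_
    rw [smul_mul_assoc, mul_smul_comm, ← hβ i, hzc i]
  obtain ⟨c, hc⟩ := Algebra.IsCentral.out hzD
  replace hc : algebraMap F' D c = (z : D) := hc
  -- `z` and `1` have coordinates in `E`
  obtain ⟨i₀, hi₀⟩ : ∃ i, β.repr 1 i ≠ 0 := by
    by_contra h
    push Not at h
    exact one_ne_zero ((β.repr.map_eq_zero_iff).mp (Finsupp.ext h))
  have hrepr : ∀ (y : D₀) i, b.repr (y : D) i = algebraMap E F' (β.repr y i) := by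
    intro y i
    conv_lhs => rw [← β.sum_repr y]
    rw [AddSubmonoidClass.coe_finsetSum]
    simp only [SetLike.val_smul, hβ]
    simp only [← algebraMap_smul F' (β.repr y _) (b _)]
    rw [b.repr_sum_self]
  have hz1 : algebraMap E F' (β.repr z i₀) = c * algebraMap E F' (β.repr 1 i₀) := by
    rw [← hrepr, ← hrepr, OneMemClass.coe_one, ← hc, Algebra.algebraMap_eq_smul_one, map_smul]
    rfl
  refine ⟨β.repr z i₀ / β.repr 1 i₀, Subtype.ext ?_⟩
  show ((algebraMap E D₀ (β.repr z i₀ / β.repr 1 i₀) : D₀) : D) = (z : D)
  rw [Algebra.algebraMap_eq_smul_one, SetLike.val_smul, OneMemClass.coe_one, IntermediateField.smul_def,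
    ← Algebra.algebraMap_eq_smul_one]
  change algebraMap F' D (algebraMap E F' (β.repr z i₀ / β.repr 1 i₀)) = (z : D)
  rw [map_div₀, hz1, mul_div_assoc, div_self ((map_ne_zero _).mpr hi₀), mul_one, hc]

/-- `A ⊗[S] (S ⊗[R] B) ≃ A ⊗[R] B` for a possibly noncommutative `B`. -/
noncomputable def cancelBC (R S A B : Type u) [CommRing R] [CommRing S] [CommRing A] [Ring B]
    [Algebra R S] [Algebra R A] [Algebra S A] [IsScalarTower R S A] [Algebra R B] :
    A ⊗[S] (S ⊗[R] B) ≃ₐ[A] A ⊗[R] B :=
  AlgEquiv.symm <| AlgEquiv.ofLinearEquiv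
    (TensorProduct.AlgebraTensorModule.cancelBaseChange R S A A B).symm
    (by simp [Algebra.TensorProduct.one_def]) <|
      LinearMap.map_mul_of_map_mul_tmul (fun _ _ _ _ ↦ by simp)

theorem iff_restriction (K F : Type u) [Field K] [Field F] [Algebra K F] [Algebra.IsSeparable K F] :
    (∀ (F' : Type u) [Field F'] [Algebra F F'] [FiniteDimensional F F'] [Algebra.IsSeparable F F']
        (D : Type u) [DivisionRing D] [Algebra F' D] [Algebra.IsCentral F' D] [FiniteDimensional F' D],
        Module.finrank F' D = 1) ↔
    (∀ (E : Type u) [Field E] [Algebra K E] [FiniteDimensional K E] [Algebra.IsSeparable K E]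
        (D : Type u) [DivisionRing D] [Algebra E D] [Algebra.IsCentral E D] [FiniteDimensional E D]
        (M : Type u) [Field M] [Algebra K M] [Algebra E M] [Algebra F M] [IsScalarTower K E M]
        [IsScalarTower K F M],
        ∃ n : ℕ, Nonempty ((M ⊗[E] D) ≃ₐ[M] Matrix (Fin n) (Fin n) M)) := by
  constructor
  · intro h E _ _ _ _ D _ _ _ _ M _ _ _ _ _ _
    let g := IsScalarTower.toAlgHom K E M
    let bE := Module.finBasis K E
    let F' : IntermediateField F M := IntermediateField.adjoin F (Set.range fun i => g (bE i))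
    have hint : ∀ i, IsSeparable F (g (bE i)) := fun i => by
      have := (Algebra.IsSeparable.isSeparable K (bE i)).map (f := g) g.injective
      exact this.tower_top F
    haveI : Algebra.IsSeparable F F' :=
      (IntermediateField.isSeparable_adjoin_iff_isSeparable F M).mpr (by rintro _ ⟨i, rfl⟩; exact hint i)
    haveI : FiniteDimensional F F' := IntermediateField.finiteDimensional_adjoin
      (by rintro _ ⟨i, rfl⟩; exact (hint i).isIntegral)
    have hmem : ∀ x : E, algebraMap E M x ∈ F' := fun x => by
      rw [← bE.sum_repr x, map_sum]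
      refine sum_mem fun i _ => ?_
      rw [Algebra.smul_def, map_mul, ← IsScalarTower.algebraMap_apply]
      refine mul_mem ?_ (IntermediateField.subset_adjoin F _ ⟨i, rfl⟩)
      rw [IsScalarTower.algebraMap_apply K F M]
      exact F'.algebraMap_mem _
    letI : Algebra E F' := ((algebraMap E M).codRestrict F'.toSubfield.toSubring hmem).toAlgebra
    haveI : IsScalarTower E F' M := IsScalarTower.of_algebraMap_eq fun _ => rfl
    haveI := CSALib.isSimpleRing_baseChange E D F'
    haveI := CSALib.isCentral_baseChange E D F'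
    obtain ⟨n, hn, D', _, _, hc, hfd, ⟨e⟩⟩ := CSALib.exists_division F' (F' ⊗[E] D)
    haveI := hc
    haveI := hfd
    have h1 := h F' D'
    haveI : Nontrivial D' := inferInstance
    let e0 : F' ≃ₐ[F'] D' := AlgEquiv.ofBijective (Algebra.ofId F' D')
      ⟨(algebraMap F' D').injective, fun y => by
        obtain ⟨c, hc⟩ := (finrank_eq_one_iff_of_nonzero' (1 : D') one_ne_zero).mp h1 y
        exact ⟨c, by simp [Algebra.ofId_apply, Algebra.algebraMap_eq_smul_one, hc]⟩⟩
    refine ⟨n, ⟨(cancelBC E F' M D).symm.trans
      ((Algebra.TensorProduct.congr AlgEquiv.refl (e.trans e0.symm.mapMatrix)).trans ?_)⟩⟩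
    exact AlgEquiv.ofRingEquiv (f := (matrixEquivTensor (Fin n) F' M).symm.toRingEquiv) fun x => by
      show (matrixEquivTensor (Fin n) F' M).symm (x ⊗ₜ 1) = _
      rw [matrixEquivTensor_apply_symm, Matrix.map_one _ (map_zero _) (map_one _),
        Algebra.algebraMap_eq_smul_one]
  · intro h F' _ _ _ _ D _ _ _ _
    letI : Algebra K F' := ((algebraMap F F').comp (algebraMap K F)).toAlgebra
    haveI : IsScalarTower K F F' := IsScalarTower.of_algebraMap_eq' rfl
    haveI : Algebra.IsSeparable K F' := Algebra.IsSeparable.trans K F F'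
    obtain ⟨E, _, D₀, _, _, hc, hfd, ⟨e⟩⟩ := exists_descent K F' D
    haveI := hc
    haveI := hfd
    obtain ⟨n, ⟨e'⟩⟩ := h E D₀ F'
    exact finrank_eq_one_of_matrix (e.symm.trans e')

end Groth.Agent.BrRes24
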